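import Groth.Agent.UnitsSh.K953.Geo
import Mathlib.RingTheory.Artinian.Ring

/-!
# Cohomology of principal units for flat schemes over local rings

* `subsingleton_H_Ker` : for `A` Artinian local, `X` flat over `A`, `φ : A → B` surjective with kernel in the
  maximal ideal: if `H^n(X₀, O_{X₀}) = 0` then `H^n(X, ker (O_X^* → i_* O_{X_B}^*)) = 0`.
* `H_surjective` : surjectivity on `H^n` if `H^{n+1}` of the kernel vanishes.
-/

set_option autoImplicit false
universe u

open CategoryTheory CategoryTheory.Limits AlgebraicGeometry Opposite TopologicalSpace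

namespace K953.UnitsMain

open Groth.Agent.Fga.Units Groth.Agent.CohtopA.Sec K953.Step K953.Geo K953.Sect

section

variable {X Z : Scheme.{u}} (a : Z ⟶ X) [IsClosedImmersion a]

theorem isZero_Ker (h : ∀ V : X.affineOpens, a.ker.ideal V = ⊥) : IsZero (Ker a) := by
  rw [IsZero.iff_id_eq_zero]
  apply Sheaf.hom_ext
  ext U s
  change s = (0 : Γs (Ker a) U.unop)
  apply kv_injective a
  rw [kv_zero]
  apply _root_.Units.ext
  rw [_root_.Units.val_one]
  apply Groth.Agent.Fga.SqZero.eq_of_locally
  intro x hx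
  obtain ⟨V, h', hxV⟩ := exists_affine hx
  refine ⟨V.1, h', hxV, ?_⟩
  have h1 : ores h' ((kv a (U := U.unop) s : Γ(X, U.unop)) - 1) ∈ a.ker.ideal V := by
    apply mem_ideal
    rw [map_sub, map_one, app_kv, sub_self]
  rw [h, Ideal.mem_bot, map_sub, sub_eq_zero] at h1
  exact h1

theorem epi_comap (h : ∀ (V : X.affineOpens), ∀ x ∈ a.ker.ideal V, IsNilpotent x) :
    Epi (UnitsSh.comap a) := by
  rw [← uMap_eq]
  apply epi_of_local
  intro U s x hx
  obtain ⟨V, h', hxV⟩ := exists_affine hx
  obtain ⟨u, hu⟩ := a.app_surjective V.1 V.2 (pval a (r (pushUnits a) h' s) : Γ(Z, a ⁻¹ᵁ V.1))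
  obtain ⟨v, hv⟩ := a.app_surjective V.1 V.2
    (((pval a (r (pushUnits a) h' s))⁻¹ : Γ(Z, a ⁻¹ᵁ V.1)ˣ) : Γ(Z, a ⁻¹ᵁ V.1))
  have h1 : IsNilpotent (u * v - 1) := by
    apply h V
    rw [mem_ideal_iff, map_sub, map_mul, map_one]
    have hu' : a.app V.1 u = (pval a (r (pushUnits a) h' s) : Γ(Z, a ⁻¹ᵁ V.1)) := hu
    have hv' : a.app V.1 v = (((pval a (r (pushUnits a) h' s))⁻¹ : Γ(Z, a ⁻¹ᵁ V.1)ˣ) : Γ(Z, a ⁻¹ᵁ V.1)) := hv
    rw [hu', hv', _root_.Units.mul_inv, sub_self]
  have h2 : IsUnit (u * v) := by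
    have := h1.isUnit_one_add
    rwa [add_sub_cancel] at this
  obtain ⟨w, hw⟩ := isUnit_of_mul_isUnit_left h2
  refine ⟨V.1, h', Groth.Agent.Fga.Units.mk w, hxV, ?_⟩
  apply pval_injective
  apply _root_.Units.ext
  have hw' : a.app V.1 (w : Γ(X, V.1)) = (pval a (r (pushUnits a) h' s) : Γ(Z, a ⁻¹ᵁ V.1)) := by
    rw [hw]
    exact hu
  exact hw'

theorem H_surjective (h : ∀ (V : X.affineOpens), ∀ x ∈ a.ker.ideal V, IsNilpotent x) (n : ℕ)
    (hn : Subsingleton (Sheaf.H (Ker a) (n + 1))) :
    Function.Surjective (Sheaf.H.map (UnitsSh.comap a) n) := by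
  have := epi_comap a h
  let S : ShortComplex (CohTop.Ab X) :=
    ShortComplex.mk (kernel.ι (UnitsSh.comap a)) (UnitsSh.comap a) (kernel.condition _)
  have hS : S.Exact := S.exact_of_f_is_kernel (kernelIsKernel _)
  have hS' : S.ShortExact :=
    { exact := hS
      mono_f := show Mono (kernel.ι (UnitsSh.comap a)) from inferInstance
      epi_g := this }
  exact H_map_surjective hS' n hn

end

section

variable {A : Type u} [CommRing A] {X : Scheme.{u}} (p : X ⟶ Spec (CommRingCat.of A)) [Flat p]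

/-- The data of an elementary step from ideals of `A`. -/
theorem dat {B₁ B₂ B₃ : Type u} [CommRing B₁] [CommRing B₂] [CommRing B₃] (φ₁ : A →+* B₁) (φ₂ : A →+* B₂)
    (φ₃ : A →+* B₃) (h₁ : Function.Surjective φ₁) (h₂ : Function.Surjective φ₂)
    (h₃ : Function.Surjective φ₃) (t : A) (hb : RingHom.ker φ₂ = RingHom.ker φ₁ ⊔ Ideal.span {t})
    (hc : ∀ x, t * x ∈ RingHom.ker φ₁ ↔ x ∈ RingHom.ker φ₃) (ht : t ∈ RingHom.ker φ₃)
    (hn : IsNilpotent t) :
    Dat (pullback.fst p (Spec.map (CommRingCat.ofHom φ₁))) (pullback.fst p (Spec.map (CommRingCat.ofHom φ₂)))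
      (pullback.fst p (Spec.map (CommRingCat.ofHom φ₃))) (gl p t) where
  hb V := by
    rw [ker_ideal p φ₁ h₁, ker_ideal p φ₂ h₂, hb, Ideal.map_sup, Ideal.map_span, Set.image_singleton]
    rfl
  hc V f := by
    rw [ker_ideal p φ₁ h₁, ker_ideal p φ₃ h₃]
    exact colon (gr p V.1) (gr_flat p V) _ _ t hc f
  ht V := by
    rw [ker_ideal p φ₃ h₃]
    exact Ideal.mem_map_of_mem (gr p V.1) ht
  hn := hn.map (gl p)

theorem isNilpotent_of_mem {B : Type u} [CommRing B] (φ : A →+* B) (hφ : Function.Surjective φ)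
    (h : RingHom.ker φ ≤ nilradical A) (V : X.affineOpens) (x : Γ(X, V.1))
    (hx : x ∈ (pullback.fst p (Spec.map (CommRingCat.ofHom φ))).ker.ideal V) : IsNilpotent x := by
  rw [ker_ideal p φ hφ] at hx
  have h1 : (RingHom.ker φ).map (gr p V.1) ≤ nilradical Γ(X, V.1) := by
    rw [Ideal.map_le_iff_le_comap]
    intro y hy
    exact (mem_nilradical.mp (h hy)).map (gr p V.1)
  exact h1 hx

theorem subsingleton_H_zero {B : Type u} [CommRing B] (φ : A →+* B) (hφ : Function.Surjective φ)
    (h : RingHom.ker φ = ⊥) (n : ℕ) :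
    Subsingleton (Sheaf.H (Ker (pullback.fst p (Spec.map (CommRingCat.ofHom φ)))) n) := by
  have := isClosedImmersion_fst p φ hφ
  apply Sheaf.subsingleton_H_of_isZero
  apply isZero_Ker
  intro V
  rw [ker_ideal p φ hφ, h, Ideal.map_bot]

/-- The one step case. -/
theorem subsingleton_H_one [IsLocalRing A] (t : A) (ht0 : t ≠ 0) (ht : t ∈ IsLocalRing.maximalIdeal A)
    (hmt : ∀ x ∈ IsLocalRing.maximalIdeal A, x * t = 0) (n : ℕ)
    (h : Subsingleton (Coh.HH (pullback p (Spec.map (CommRingCat.ofHom (IsLocalRing.residue A))))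
      (Coh.structureModule _) n)) :
    Subsingleton (Sheaf.H (Ker (pullback.fst p
      (Spec.map (CommRingCat.ofHom (Ideal.Quotient.mk (Ideal.span ({t} : Set A))))))) n) := by
  have hs : Function.Surjective (Ideal.Quotient.mk (⊥ : Ideal A)) := Ideal.Quotient.mk_surjective
  have D := dat p (Ideal.Quotient.mk (⊥ : Ideal A)) (Ideal.Quotient.mk (Ideal.span ({t} : Set A)))
    (IsLocalRing.residue A) hs Ideal.Quotient.mk_surjective IsLocalRing.residue_surjective t
    (by rw [Ideal.mk_ker, Ideal.mk_ker, bot_sup_eq]) (by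
      intro x
      rw [Ideal.mk_ker, IsLocalRing.ker_residue, Ideal.mem_bot]
      constructor
      · intro hx
        by_contra hx'
        have h1 : IsUnit x := by
          by_contra h2
          exact hx' ((IsLocalRing.mem_maximalIdeal x).mpr h2)
        exact ht0 (h1.mul_left_eq_zero.mp hx)
      · intro hx
        rw [mul_comm]
        exact hmt x hx) (by rw [IsLocalRing.ker_residue]; exact ht) ⟨2, by rw [pow_two]; exact hmt t ht⟩
  have i1 := isClosedImmersion_fst p _ hs
  have i2 := isClosedImmersion_fst p (Ideal.Quotient.mk (Ideal.span ({t} : Set A))) Ideal.Quotient.mk_surjective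
  have i3 := isClosedImmersion_fst p (IsLocalRing.residue A) IsLocalRing.residue_surjective
  exact subsingleton_Ker D n h (subsingleton_H_zero p _ hs (by rw [Ideal.mk_ker]) n)

/-- Vanishing of the cohomology of principal units. -/
theorem subsingleton_H_Ker [IsLocalRing A] [IsArtinianRing A] (n : ℕ)
    (h : Subsingleton (Coh.HH (pullback p (Spec.map (CommRingCat.ofHom (IsLocalRing.residue A))))
      (Coh.structureModule _) n)) (J : Ideal A) : J ≤ IsLocalRing.maximalIdeal A →
    ∀ {B : Type u} [CommRing B] (φ : A →+* B) (_ : Function.Surjective φ) (_ : RingHom.ker φ = J),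
    Subsingleton (Sheaf.H (Ker (pullback.fst p (Spec.map (CommRingCat.ofHom φ)))) n) := by
  induction J using WellFoundedLT.induction with
  | ind J ih =>
    intro hJ B _ φ hφ hker
    by_cases hJ0 : J = ⊥
    · exact subsingleton_H_zero p φ hφ (hker.trans hJ0) n
    obtain ⟨a, haJ, hmax⟩ : ∃ a : Ideal A, a < J ∧ ∀ c : Ideal A, a < c → ¬ c < J := by
      obtain ⟨a, ha, hm⟩ := WellFounded.has_min (wellFounded_gt (α := Ideal A)) {a | a < J}
        ⟨⊥, bot_lt_iff_ne_bot.mpr hJ0⟩
      exact ⟨a, ha, fun c hc hcJ => hm c hcJ hc⟩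
    obtain ⟨t, htJ, hta⟩ := SetLike.exists_of_lt haJ
    have hsup : a ⊔ Ideal.span {t} = J := by
      have h1 : a ⊔ Ideal.span {t} ≤ J := sup_le haJ.le ((Ideal.span_singleton_le_iff_mem _).mpr htJ)
      have h2 : a < a ⊔ Ideal.span {t} := by
        refine lt_of_le_of_ne le_sup_left fun h2 => hta ?_
        rw [h2]
        exact Ideal.mem_sup_right (Ideal.mem_span_singleton_self t)
      exact eq_of_le_of_not_lt h1 (hmax _ h2)
    have hmt : ∀ x ∈ IsLocalRing.maximalIdeal A, t * x ∈ a := by
      intro x hx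
      by_contra hxa
      have h2 : a < a ⊔ Ideal.span {t * x} := by
        refine lt_of_le_of_ne le_sup_left fun h2 => hxa ?_
        rw [h2]
        exact Ideal.mem_sup_right (Ideal.mem_span_singleton_self _)
      have h1 : a ⊔ Ideal.span {t * x} ≤ J :=
        sup_le haJ.le ((Ideal.span_singleton_le_iff_mem _).mpr (Ideal.mul_mem_right _ _ htJ))
      have h3 : a ⊔ Ideal.span {t * x} = J := eq_of_le_of_not_lt h1 (hmax _ h2)
      rw [← h3] at htJ
      obtain ⟨y, hy, z, hz, hyz⟩ := Submodule.mem_sup.mp htJ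
      obtain ⟨w, rfl⟩ := Ideal.mem_span_singleton'.mp hz
      have h4 : t * (1 - x * w) ∈ a := by
        have : t * (1 - x * w) = y := by linear_combination -hyz
        rw [this]
        exact hy
      have h5 : IsUnit (1 - x * w) := by
        by_contra h6
        have h7 := (IsLocalRing.mem_maximalIdeal _).mpr h6
        have h8 : (1 : A) ∈ IsLocalRing.maximalIdeal A := by
          have := Ideal.add_mem _ h7 (Ideal.mul_mem_right w _ hx)
          rwa [sub_add_cancel] at this
        exact (Ideal.ne_top_iff_one _).mp (IsLocalRing.maximalIdeal.isMaximal A).ne_top h8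
      obtain ⟨v, hv⟩ := h5
      apply hta
      have h9 : t = t * (1 - x * w) * ((v⁻¹ : Aˣ) : A) := by
        rw [← hv, mul_assoc, _root_.Units.mul_inv, mul_one]
      rw [h9]
      exact Ideal.mul_mem_right _ _ h4
    have ham : a ≤ IsLocalRing.maximalIdeal A := haJ.le.trans hJ
    have hs : Function.Surjective (Ideal.Quotient.mk a) := Ideal.Quotient.mk_surjective
    have ih' := ih a haJ ham (Ideal.Quotient.mk a) hs (Ideal.mk_ker)
    have D := dat p (Ideal.Quotient.mk a) φ (IsLocalRing.residue A) hs hφ IsLocalRing.residue_surjective t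
      (by rw [Ideal.mk_ker, hker, hsup]) (by
        intro x
        rw [Ideal.mk_ker, IsLocalRing.ker_residue]
        constructor
        · intro hx
          by_contra hx'
          have h1 : IsUnit x := by
            by_contra h2
            exact hx' ((IsLocalRing.mem_maximalIdeal x).mpr h2)
          obtain ⟨v, rfl⟩ := h1
          apply hta
          have h9 : t = t * (v : A) * ((v⁻¹ : Aˣ) : A) := by
            rw [mul_assoc, _root_.Units.mul_inv, mul_one]
          rw [h9]
          exact Ideal.mul_mem_right _ _ hx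
        · exact hmt x) (by rw [IsLocalRing.ker_residue]; exact hJ htJ) (by
        have h1 : IsNilpotent (IsLocalRing.maximalIdeal A) := by
          rw [← IsLocalRing.jacobson_eq_maximalIdeal (⊥ : Ideal A) bot_ne_top]
          exact IsArtinianRing.isNilpotent_jacobson_bot
        obtain ⟨N, hN⟩ := h1
        refine ⟨N, ?_⟩
        have h2 := Ideal.pow_mem_pow (hJ htJ) N
        rw [hN] at h2
        exact h2)
    have i1 := isClosedImmersion_fst p _ hs
    have i2 := isClosedImmersion_fst p φ hφ
    have i3 := isClosedImmersion_fst p (IsLocalRing.residue A) IsLocalRing.residue_surjective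
    exact subsingleton_Ker D n h ih'

end

end K953.UnitsMain
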