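import Groth.Agent.UnitsSh.K953.Main
import Mathlib.Algebra.DualNumber
import Mathlib.RingTheory.DualNumber
import Mathlib.RingTheory.Spectrum.Prime.Topology

/-!
# Units of a split first order thickening

* `sec` : for `b : Z ⟶ X` surjective with a retraction `s`, the section `b_* O_Z^* → O_X^*` of the units map;
* `nonempty_equiv` : the kernel of `H^q(X, O_X^*) → H^q(X, b_* O_Z^*)` for a split thickening by one step.
-/

set_option autoImplicit false
universe u

open CategoryTheory CategoryTheory.Limits AlgebraicGeometry Opposite TopologicalSpace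

namespace K953.Split

open Groth.Agent.Fga.Units Groth.Agent.CohtopA.Sec K953.Step K953.Geo K953.Sect K953.UnitsMain

section

variable {X Z : Scheme.{u}} (b : Z ⟶ X) (s : X ⟶ Z) (hs : b ≫ s = 𝟙 Z) (hb : Function.Surjective b)

include hs hb in
theorem le_preimage (U : X.Opens) : U ≤ s ⁻¹ᵁ (b ⁻¹ᵁ U) := by
  intro x hx
  obtain ⟨z, rfl⟩ := hb x
  change b (s (b z)) ∈ U
  have h1 : s (b z) = z := by
    rw [← Scheme.Hom.comp_apply, hs]
    rfl
  rw [h1]
  exact hx

/-- The section of the units map. -/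
noncomputable def sec : (CohTop.push b.base).obj (UnitsSh.unitsAb Z) ⟶ UnitsSh.unitsAb X :=
  ⟨{ app := fun U => AddCommGrpCat.ofHom (MonoidHom.toAdditive
        (_root_.Units.map ((s.appLE (b ⁻¹ᵁ U.unop) U.unop (le_preimage b s hs hb U.unop)).hom :
          Γ(Z, b ⁻¹ᵁ U.unop) →* Γ(X, U.unop))))
     naturality := fun U V i => by
        ext w
        apply val_injective
        apply _root_.Units.ext
        have h1 : Z.presheaf.map (homOfLE (b.preimage_mono (leOfHom i.unop))).op ≫
            s.appLE (b ⁻¹ᵁ V.unop) V.unop (le_preimage b s hs hb V.unop) =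
            s.appLE (b ⁻¹ᵁ U.unop) U.unop (le_preimage b s hs hb U.unop) ≫ X.presheaf.map i := by
          rw [Scheme.Hom.map_appLE, Scheme.Hom.appLE_map]
        exact congr($h1 (val (X := Z) (U := b ⁻¹ᵁ U.unop) w : Γ(Z, b ⁻¹ᵁ U.unop))) }⟩

theorem sec_comap : sec b s hs hb ≫ UnitsSh.comap b = 𝟙 _ := by
  apply Sheaf.hom_ext
  ext U w
  apply pval_injective b
  apply _root_.Units.ext
  have h1 : s.appLE (b ⁻¹ᵁ U.unop) U.unop (le_preimage b s hs hb U.unop) ≫ b.app U.unop = 𝟙 _ := by
    rw [Scheme.Hom.app_eq_appLE, Scheme.Hom.appLE_comp_appLE]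
    simp only [hs]
    rw [Scheme.Hom.appLE]
    simp only [Scheme.Hom.id_app]
    exact (Category.id_comp _).trans (Z.presheaf.map_id _)
  exact congr($h1 (val (X := Z) (U := b ⁻¹ᵁ U.unop) w : Γ(Z, b ⁻¹ᵁ U.unop)))

end

section

variable {X : Scheme.{u}}

/-- An isomorphism from a sequence of equivalences. -/
theorem nonempty_H_equiv {F G : CohTop.Ab X} (f : F ⟶ G) [IsIso f] (n : ℕ) :
    Nonempty (Sheaf.H F n ≃+ Sheaf.H G n) := by
  refine ⟨{ toFun := Sheaf.H.map f n
            invFun := Sheaf.H.map (inv f) n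
            left_inv := fun x => ?_
            right_inv := fun x => ?_
            map_add' := fun x y => map_add _ _ _ }⟩
  · rw [← Sheaf.H.map_comp_apply, IsIso.hom_inv_id, Sheaf.H.map_id_apply]
  · rw [← Sheaf.H.map_comp_apply, IsIso.inv_hom_id, Sheaf.H.map_id_apply]

variable {A : Type u} [CommRing A] (p : X ⟶ Spec (CommRingCat.of A)) [Flat p]

/-- `ker (O_X^* → b_* O_Z^*) ≅ b_* O_Z` for the ideal generated by `t` with annihilator `(t)`. -/
theorem exists_iso {B : Type u} [CommRing B] (φ : A →+* B) (hφ : Function.Surjective φ) (t : A)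
    (ht : RingHom.ker φ = Ideal.span {t}) (ha : ∀ x, t * x = 0 ↔ x ∈ RingHom.ker φ) :
    ∃ L : Ker (pullback.fst p (Spec.map (CommRingCat.ofHom φ))) ⟶
      pfs (pullback.fst p (Spec.map (CommRingCat.ofHom φ))), IsIso L := by
  have hs : Function.Surjective (Ideal.Quotient.mk (⊥ : Ideal A)) := Ideal.Quotient.mk_surjective
  have htt : t ∈ RingHom.ker φ := by
    rw [ht]
    exact Ideal.mem_span_singleton_self t
  have D := dat p (Ideal.Quotient.mk (⊥ : Ideal A)) φ φ hs hφ hφ t
    (by rw [Ideal.mk_ker, bot_sup_eq, ht]) (by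
      intro x
      rw [Ideal.mk_ker, Ideal.mem_bot]
      exact ha x) htt ⟨2, by rw [pow_two]; exact (ha t).mpr htt⟩
  have i1 := isClosedImmersion_fst p _ hs
  have i2 := isClosedImmersion_fst p φ hφ
  obtain ⟨L, h1, h2⟩ := exists_epi D
  have h3 : Mono L := by
    apply mono_of_injective
    intro U
    rw [injective_iff_map_eq_zero]
    intro s hs'
    rw [h2] at hs'
    obtain ⟨s', hs''⟩ := exists_kv _ _ hs'
    have h4 : s' = 0 := by
      have h5 := isZero_Ker (pullback.fst p (Spec.map (CommRingCat.ofHom (Ideal.Quotient.mk (⊥ : Ideal A)))))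
        (by
          intro V
          rw [ker_ideal p _ hs, Ideal.mk_ker, Ideal.map_bot])
      rw [IsZero.iff_id_eq_zero] at h5
      exact congrArg (fun g => m g U s') h5
    apply kv_injective
    rw [kv_zero, ← hs'', h4, kv_zero]
  exact ⟨L, isIso_of_mono_of_epi L⟩

/-- The kernel of `H^q(X, O_X^*) → H^q(X, b_* O_Z^*)` for a split thickening by one step. -/
theorem nonempty_equiv {B : Type u} [CommRing B] (φ : A →+* B) (hφ : Function.Surjective φ) (t : A)
    (ht : RingHom.ker φ = Ideal.span {t}) (ha : ∀ x, t * x = 0 ↔ x ∈ RingHom.ker φ)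
    (s : X ⟶ pullback p (Spec.map (CommRingCat.ofHom φ)))
    (hs : pullback.fst p (Spec.map (CommRingCat.ofHom φ)) ≫ s = 𝟙 _) (q : ℕ) :
    Nonempty ((Sheaf.H.map (UnitsSh.comap (pullback.fst p (Spec.map (CommRingCat.ofHom φ)))) q).ker ≃+
      Coh.HH (pullback p (Spec.map (CommRingCat.ofHom φ)))
        (Coh.structureModule (pullback p (Spec.map (CommRingCat.ofHom φ)))) q) := by
  have i2 := isClosedImmersion_fst p φ hφ
  have h0 : Surjective (Spec.map (CommRingCat.ofHom φ)) := by
    constructor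
    have h1 : Set.range (PrimeSpectrum.comap φ) = Set.univ := by
      rw [range_comap_of_surjective _ φ hφ, PrimeSpectrum.zeroLocus_eq_univ_iff]
      intro x hx
      have hx' : x ∈ RingHom.ker φ := hx
      rw [ht] at hx'
      obtain ⟨y, rfl⟩ := Ideal.mem_span_singleton'.mp hx'
      have h3 : IsNilpotent t := ⟨2, by
        rw [pow_two, ha, ht]
        exact Ideal.mem_span_singleton_self t⟩
      exact mem_nilradical.mpr ((Commute.all _ _).isNilpotent_mul_left h3)
    exact Set.range_eq_univ.mp h1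
  have hsurj : Surjective (pullback.fst p (Spec.map (CommRingCat.ofHom φ))) := inferInstance
  obtain ⟨e1⟩ := nonempty_ker_equiv (UnitsSh.comap (pullback.fst p (Spec.map (CommRingCat.ofHom φ))))
    (sec _ s hs hsurj.surj) (sec_comap _ s hs hsurj.surj) q
  obtain ⟨L, hL⟩ := exists_iso p φ hφ t ht ha
  obtain ⟨e2⟩ := nonempty_H_equiv L q
  have h1 := Groth.Agent.CohtopA.PushClosed.preservesFiniteColimits_push_of_isClosedEmbedding
    (pullback.fst p (Spec.map (CommRingCat.ofHom φ))).base
    (pullback.fst p (Spec.map (CommRingCat.ofHom φ))).isClosedEmbedding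
  have e3 := Groth.Agent.CohtopA.PushClosed.HPushEquiv (pullback.fst p (Spec.map (CommRingCat.ofHom φ))).base
    (Coh.toAb (Coh.structureModule (pullback p (Spec.map (CommRingCat.ofHom φ))))) q
  exact ⟨(e1.trans e2).trans e3.symm⟩

end

section Dual

variable (k : Type u) [Field k] (X₀ : Scheme.{u}) [X₀.Over (Spec (CommRingCat.of k))]

theorem fst_surjective : Function.Surjective (TrivSqZeroExt.fstHom k k k).toRingHom :=
  fun x => ⟨TrivSqZeroExt.inl x, rfl⟩

open TrivSqZeroExt in
theorem ker_fst : RingHom.ker (TrivSqZeroExt.fstHom k k k).toRingHom =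
    Ideal.span {(DualNumber.eps : DualNumber k)} := by
  ext x
  rw [RingHom.mem_ker, Ideal.mem_span_singleton']
  constructor
  · intro hx
    refine ⟨TrivSqZeroExt.inl x.snd, ?_⟩
    ext
    · have h1 : x.fst = 0 := hx
      simp [h1]
    · simp
  · rintro ⟨y, rfl⟩
    change (y * DualNumber.eps).fst = 0
    simp

theorem mul_eps (x : DualNumber k) : DualNumber.eps * x = 0 ↔
    x ∈ RingHom.ker (TrivSqZeroExt.fstHom k k k).toRingHom := by
  rw [RingHom.mem_ker]
  change _ ↔ x.fst = 0
  constructor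
  · intro h
    have h1 := congrArg TrivSqZeroExt.snd h
    simpa using h1
  · intro h
    ext
    · simp
    · simp [h]

theorem main (q : ℕ) :
    Nonempty ((Sheaf.H.map (UnitsSh.comap (pullback.fst (pullback.snd (X₀ ↘ Spec (CommRingCat.of k)) (Spec.map (CommRingCat.ofHom (algebraMap k (DualNumber k))))) (Spec.map (CommRingCat.ofHom (TrivSqZeroExt.fstHom k k k).toRingHom)))) q).ker ≃+
      Coh.HH (pullback (pullback.snd (X₀ ↘ Spec (CommRingCat.of k)) (Spec.map (CommRingCat.ofHom (algebraMap k (DualNumber k))))) (Spec.map (CommRingCat.ofHom (TrivSqZeroExt.fstHom k k k).toRingHom))) (Coh.structureModule (pullback (pullback.snd (X₀ ↘ Spec (CommRingCat.of k)) (Spec.map (CommRingCat.ofHom (algebraMap k (DualNumber k))))) (Spec.map (CommRingCat.ofHom (TrivSqZeroExt.fstHom k k k).toRingHom)))) q) := by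
  have hP := (IsPullback.of_hasPullback (pullback.snd (X₀ ↘ Spec (CommRingCat.of k))
    (Spec.map (CommRingCat.ofHom (algebraMap k (DualNumber k)))))
    (Spec.map (CommRingCat.ofHom (TrivSqZeroExt.fstHom k k k).toRingHom))).paste_horiz
    (IsPullback.of_hasPullback (X₀ ↘ Spec (CommRingCat.of k))
      (Spec.map (CommRingCat.ofHom (algebraMap k (DualNumber k)))))
  have h1 : Spec.map (CommRingCat.ofHom (TrivSqZeroExt.fstHom k k k).toRingHom) ≫
      Spec.map (CommRingCat.ofHom (algebraMap k (DualNumber k))) = 𝟙 _ := by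
    rw [← Spec.map_comp, ← CommRingCat.ofHom_comp]
    have h2 : (TrivSqZeroExt.fstHom k k k).toRingHom.comp (algebraMap k (DualNumber k)) = RingHom.id k := by
      ext x
      exact (TrivSqZeroExt.fstHom k k k).commutes x
    rw [h2]
    exact Spec.map_id _
  rw [h1] at hP
  have hi := hP.isIso_fst_of_isIso
  refine nonempty_equiv (pullback.snd (X₀ ↘ Spec (CommRingCat.of k))
    (Spec.map (CommRingCat.ofHom (algebraMap k (DualNumber k)))))
    (TrivSqZeroExt.fstHom k k k).toRingHom (fst_surjective k) DualNumber.eps (ker_fst k) (mul_eps k)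
    (pullback.fst _ _ ≫ inv (pullback.fst (pullback.snd (X₀ ↘ Spec (CommRingCat.of k))
      (Spec.map (CommRingCat.ofHom (algebraMap k (DualNumber k)))))
      (Spec.map (CommRingCat.ofHom (TrivSqZeroExt.fstHom k k k).toRingHom)) ≫ pullback.fst _ _)) ?_ q
  rw [← Category.assoc, IsIso.hom_inv_id]

end Dual

end K953.Split
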