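import Groth.Agent.UnitsSh.K953.Step
import Groth.Agent.Divis.IdealComap
import Mathlib.AlgebraicGeometry.Morphisms.Flat
import Mathlib.AlgebraicGeometry.IdealSheaf.Functorial
import Mathlib.RingTheory.Flat.EquationalCriterion

/-!
# The closed subschemes of a flat scheme over `Spec A` defined by ideals of `A`

* `ker_ideal` : the ideal of `pullback.fst p (Spec φ)` for `φ : A → B` surjective is `(ker φ) O_X`;
* `dat` : the hypotheses of the elementary step.
-/

set_option autoImplicit false
universe u

open CategoryTheory CategoryTheory.Limits AlgebraicGeometry Opposite TopologicalSpace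

namespace K953.Geo

open Groth.Agent.Fga.Units K953.Step

section Alg

/-- Flatness and colon ideals. -/
theorem colon {A R : Type u} [CommRing A] [CommRing R] (f : A →+* R) (hf : f.Flat) (a m : Ideal A) (t : A)
    (h : ∀ x, t * x ∈ a ↔ x ∈ m) (y : R) : f t * y ∈ a.map f ↔ y ∈ m.map f := by
  constructor
  · intro hy
    algebraize [f]
    have hfl : Module.Flat A R := hf
    rw [Ideal.map, Submodule.mem_span_set'] at hy
    obtain ⟨n, r, s, hs⟩ := hy
    choose a' ha' has using fun i => (s i).2
    have h1 : ∑ i : Option (Fin n), (Option.elim i t (fun i => - a' i)) •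
        (Option.elim i y r : R) = 0 := by
      rw [Fintype.sum_option]
      simp only [Option.elim_none, Option.elim_some, Algebra.smul_def]
      change f t * y + ∑ i, f (- a' i) * r i = 0
      rw [← hs, ← Finset.sum_add_distrib]
      apply Finset.sum_eq_zero
      intro i _
      rw [map_neg, smul_eq_mul, ← has i]
      ring
    obtain ⟨κ, c, z, hz, hc⟩ := Module.Flat.isTrivialRelation_of_sum_smul_eq_zero h1
    have h2 : y = ∑ j, c none j • z j := hz none
    rw [h2]
    refine Ideal.sum_mem _ fun j _ => ?_
    rw [Algebra.smul_def]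
    refine Ideal.mul_mem_right _ _ (Ideal.mem_map_of_mem f ?_)
    rw [← h]
    have h3 := hc j
    rw [Fintype.sum_option] at h3
    simp only [Option.elim_none, Option.elim_some] at h3
    have h4 : t * c none j = ∑ i, a' i * c (some i) j := by
      simp only [neg_mul, Finset.sum_neg_distrib] at h3
      linear_combination h3
    rw [h4]
    exact Ideal.sum_mem _ fun i _ => Ideal.mul_mem_right _ _ (ha' i)
  · intro hy
    rw [Ideal.map] at hy
    induction hy using Submodule.span_induction with
    | mem x hx =>
      obtain ⟨x, hx, rfl⟩ := hx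
      rw [← map_mul]
      exact Ideal.mem_map_of_mem f ((h x).mpr hx)
    | zero => rw [mul_zero]; exact zero_mem _
    | add x y _ _ hx hy => rw [mul_add]; exact add_mem hx hy
    | smul r x _ hx => rw [smul_eq_mul, mul_left_comm]; exact Ideal.mul_mem_left _ _ hx

end Alg

section

variable {A : Type u} [CommRing A] {X : Scheme.{u}} (p : X ⟶ Spec (CommRingCat.of A))

/-- The structure map `A → Γ(X, ⊤)`. -/
noncomputable def gl : A →+* Γ(X, ⊤) := p.appTop.hom.comp (Scheme.ΓSpecIso (CommRingCat.of A)).inv.hom

/-- The structure map `A → Γ(X, V)`. -/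
noncomputable def gr (V : X.Opens) : A →+* Γ(X, V) := (ores (le_top : V ≤ ⊤)).comp (gl p)

theorem gr_eq (V : X.Opens) : gr p V = (p.appLE ⊤ V le_top).hom.comp (Scheme.ΓSpecIso (CommRingCat.of A)).inv.hom :=
  rfl

theorem gr_flat [Flat p] (V : X.affineOpens) : (gr p V.1).Flat := by
  rw [gr_eq]
  refine RingHom.Flat.comp (RingHom.Flat.of_bijective ?_) (Flat.flat_appLE (f := p) (isAffineOpen_top _) V.2 _)
  exact ConcreteCategory.bijective_of_isIso (Scheme.ΓSpecIso (CommRingCat.of A)).inv

variable {B : Type u} [CommRing B] (φ : A →+* B) (hφ : Function.Surjective φ)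

include hφ in
theorem isClosedImmersion_Spec : IsClosedImmersion (Spec.map (CommRingCat.ofHom φ)) :=
  IsClosedImmersion.spec_of_surjective _ hφ

include hφ in
theorem isClosedImmersion_fst : IsClosedImmersion (pullback.fst p (Spec.map (CommRingCat.ofHom φ))) := by
  have := isClosedImmersion_Spec φ hφ
  infer_instance

theorem ker_Spec : (Spec.map (CommRingCat.ofHom φ)).ker.ideal ⟨⊤, isAffineOpen_top _⟩ =
    (RingHom.ker φ).map (Scheme.ΓSpecIso (CommRingCat.of A)).inv.hom := by
  rw [Scheme.Hom.ker_apply]
  have h1 := Scheme.ΓSpecIso_inv_naturality (CommRingCat.ofHom φ)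
  ext s
  rw [RingHom.mem_ker]
  constructor
  · intro h
    have h2 : s = (Scheme.ΓSpecIso (CommRingCat.of A)).inv.hom ((Scheme.ΓSpecIso (CommRingCat.of A)).hom.hom s) := by
      rw [← CommRingCat.comp_apply, Iso.hom_inv_id]
      rfl
    rw [h2]
    apply Ideal.mem_map_of_mem
    rw [RingHom.mem_ker]
    have h3 := congr($(Scheme.ΓSpecIso_naturality (CommRingCat.ofHom φ)).hom s)
    change _ = φ ((Scheme.ΓSpecIso (CommRingCat.of A)).hom.hom s) at h3
    rw [← h3, CommRingCat.comp_apply]
    have h4 : (Spec.map (CommRingCat.ofHom φ)).appTop.hom s = 0 := h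
    exact (congrArg _ h4).trans (map_zero _)
  · intro h
    have h2 : (RingHom.ker φ).map (Scheme.ΓSpecIso (CommRingCat.of A)).inv.hom ≤
        RingHom.ker (Spec.map (CommRingCat.ofHom φ)).appTop.hom := by
      rw [Ideal.map_le_iff_le_comap]
      intro x hx
      rw [Ideal.mem_comap, RingHom.mem_ker]
      have h3 := congr($(h1).hom x)
      change _ = (Spec.map (CommRingCat.ofHom φ)).appTop.hom ((Scheme.ΓSpecIso (CommRingCat.of A)).inv.hom x) at h3
      rw [← h3, CommRingCat.comp_apply]
      have h4 : (CommRingCat.ofHom φ).hom x = 0 := hx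
      exact (congrArg _ h4).trans (map_zero _)
    exact h2 h

include hφ in
theorem ker_ideal (V : X.affineOpens) :
    (pullback.fst p (Spec.map (CommRingCat.ofHom φ))).ker.ideal V = (RingHom.ker φ).map (gr p V.1) := by
  have := isClosedImmersion_Spec φ hφ
  rw [Scheme.IdealSheafData.ker_fst_of_isClosedImmersion,
    Groth.Agent.Divis.IdealComap.ideal_comap _ p ⟨⊤, isAffineOpen_top _⟩ V le_top, ker_Spec, Ideal.map_map, gr_eq]

end

end K953.Geo
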