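import Groth.Agent.CohtopA.Sec
import Groth.Agent.CohtopA.PushClosed
import Groth.Agent.Fga.Units
import Groth.Prelude.Def_CohTop
import Mathlib.Algebra.Homology.DerivedCategory.Ext.ExactSequences
import Mathlib.CategoryTheory.Abelian.Basic

/-!
# Comparing kernels of abelian sheaves section by section

* `exists_factor` : two maps `L : K ⟶ Q`, `M : O ⟶ Q` with locally the same image and an epimorphism `c : O ⟶ C`
  with the same kernel as `M` give an epimorphism `K ⟶ C` with the same kernel as `L`;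
* `subsingleton_H_mid`, `H_map_surjective`, `kerAddEquiv` : consequences in cohomology.
-/

set_option autoImplicit false
universe u

open CategoryTheory TopologicalSpace Opposite CategoryTheory.Limits

namespace K953.Sect

open Groth.Agent.CohtopA.Sec

variable {X : TopCat.{u}}

/-- Sections of a kernel. -/
theorem exists_ker {F G : CohTop.Ab X} (f : F ⟶ G) {U : Opens X} (s : Γs F U) (h : m f U s = 0) :
    ∃ t : Γs (kernel f) U, m (kernel.ι f) U t = s := by
  let S : ShortComplex (CohTop.Ab X) := ShortComplex.mk (kernel.ι f) f (kernel.condition f)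
  have hS : S.Exact := S.exact_of_f_is_kernel (kernelIsKernel f)
  exact TopCat.Sheaf.sections_exact_of_left_exact (X := X) (S := S) hS
    (show Mono (kernel.ι f) from inferInstance) s h

theorem ker_m {F G : CohTop.Ab X} (f : F ⟶ G) {U : Opens X} (t : Γs (kernel f) U) :
    m f U (m (kernel.ι f) U t) = 0 := by
  rw [← m_comp, kernel.condition]
  rfl

theorem exists_factor {K Q O C : CohTop.Ab X} (L : K ⟶ Q) (M : O ⟶ Q) (c : O ⟶ C) [Epi c]
    (h1 : ∀ (U : Opens X) (f : Γs O U), m M U f = 0 ↔ m c U f = 0)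
    (h2 : ∀ (U : Opens X) (s : Γs K U) (x : X), x ∈ U →
      ∃ (V : Opens X) (h : V ≤ U) (f : Γs O V), x ∈ V ∧ m M V f = m L V (r K h s))
    (h3 : ∀ (U : Opens X) (f : Γs O U) (x : X), x ∈ U →
      ∃ (V : Opens X) (h : V ≤ U) (s : Γs K V), x ∈ V ∧ m L V s = m M V (r O h f)) :
    ∃ L' : K ⟶ C, Epi L' ∧ ∀ (U : Opens X) (s : Γs K U), m L' U s = 0 ↔ m L U s = 0 := by
  have hM : kernel.ι c ≫ M = 0 := by
    apply Sheaf.hom_ext
    ext U s
    have h4 : m c U.unop (m (kernel.ι c) U.unop s) = 0 := ker_m c s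
    exact (h1 _ _).mpr h4
  let N : C ⟶ Q := Abelian.epiDesc c M hM
  have hN : c ≫ N = M := Abelian.comp_epiDesc c M hM
  have hNs : ∀ (U : Opens X) (f : Γs O U), m N U (m c U f) = m M U f := by
    intro U f
    rw [← hN]
    rfl
  have hNz : ∀ (U : Opens X) (s : Γs C U), m N U s = 0 → s = 0 := by
    intro U s hs
    apply sep
    intro x hx
    obtain ⟨V, h, f, hxV, hf⟩ := exists_lift c s x hx
    refine ⟨V, h, hxV, ?_⟩
    rw [map_zero, ← hf, ← h1, ← hNs, hf, m_r, hs, map_zero]
  have hNm : Mono N := mono_of_injective N fun U => (injective_iff_map_eq_zero _).mpr (hNz U)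
  have hL : L ≫ cokernel.π N = 0 := by
    apply Sheaf.hom_ext
    ext U s
    have h4 : m (L ≫ cokernel.π N) U.unop s = 0 := by
      apply sep
      intro x hx
      obtain ⟨V, h, f, hxV, hf⟩ := h2 _ s x hx
      refine ⟨V, h, hxV, ?_⟩
      have h5 : m (cokernel.π N) V (m N V (m c V f)) = 0 := by
        rw [← m_comp, cokernel.condition]
        rfl
      rw [map_zero, ← m_r, m_comp, ← hf, ← hNs, h5]
    exact h4
  let L' : K ⟶ C := Abelian.monoLift N L hL
  have hL' : L' ≫ N = L := Abelian.monoLift_comp N L hL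
  have hLs : ∀ (U : Opens X) (s : Γs K U), m N U (m L' U s) = m L U s := by
    intro U s
    rw [← m_comp, hL']
  refine ⟨L', ?_, fun U s => ?_⟩
  · apply epi_of_local
    intro U t x hx
    obtain ⟨V, h, f, hxV, hf⟩ := exists_lift c t x hx
    obtain ⟨W, h', s, hxW, hs⟩ := h3 V f x hxV
    refine ⟨W, h'.trans h, s, hxW, ?_⟩
    apply m_injective N
    rw [hLs, hs, ← hNs, m_r, hf, r_r]
  · rw [← hLs]
    constructor
    · intro h
      rw [h, map_zero]
    · exact hNz U _

/-- A short exact sequence from an epimorphism and a monomorphism which is the kernel on sections. -/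
theorem shortExact {A B C : CohTop.Ab X} (j : A ⟶ B) [Mono j] (p : B ⟶ C) [Epi p]
    (h : ∀ (U : Opens X) (s : Γs B U), m p U s = 0 ↔ ∃ t : Γs A U, m j U t = s) :
    ∃ w : j ≫ p = 0, (ShortComplex.mk j p w).ShortExact := by
  have w : j ≫ p = 0 := by
    apply Sheaf.hom_ext
    ext U s
    exact (h _ _).mpr ⟨s, rfl⟩
  refine ⟨w, Groth.Agent.Fga.Units.shortExact_of_sections _ (fun U => m_injective j U)
    (fun U s hs => (h U s).mp hs) ?_⟩
  intro U t x hx
  obtain ⟨V, hV, s, hxV, hs⟩ := exists_lift p t x hx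
  exact ⟨V, hV, s, hxV, hs⟩

open Abelian in
theorem subsingleton_H_mid {S : ShortComplex (CohTop.Ab X)} (hS : S.ShortExact) (n : ℕ)
    (h1 : Subsingleton (Sheaf.H S.X₁ n)) (h3 : Subsingleton (Sheaf.H S.X₃ n)) :
    Subsingleton (Sheaf.H S.X₂ n) := by
  refine subsingleton_of_forall_eq 0 fun x => ?_
  obtain ⟨y, rfl⟩ := Ext.covariant_sequence_exact₂ _ hS x (Subsingleton.elim _ _)
  rw [Subsingleton.elim y 0, Ext.zero_comp]

open Abelian in
theorem H_map_surjective {S : ShortComplex (CohTop.Ab X)} (hS : S.ShortExact) (n : ℕ)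
    (h1 : Subsingleton (Sheaf.H S.X₁ (n + 1))) :
    Function.Surjective (Sheaf.H.map S.g n) := by
  intro x
  obtain ⟨y, hy⟩ := Ext.covariant_sequence_exact₃ _ hS x rfl (Subsingleton.elim _ _)
  exact ⟨y, hy⟩

theorem subsingleton_H_congr {F G : CohTop.Ab X} (e : F ≅ G) (n : ℕ) (h : Subsingleton (Sheaf.H F n)) :
    Subsingleton (Sheaf.H G n) := by
  refine subsingleton_of_forall_eq 0 fun x => ?_
  have h1 : Sheaf.H.map e.hom n (Sheaf.H.map e.inv n x) = x := by
    rw [← Sheaf.H.map_comp_apply, e.inv_hom_id, Sheaf.H.map_id_apply]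
  rw [← h1, Subsingleton.elim (Sheaf.H.map e.inv n x) 0, map_zero]

/-- The kernel on cohomology of a split epimorphism. -/
theorem nonempty_ker_equiv {A B : CohTop.Ab X} (f : A ⟶ B) (σ : B ⟶ A) (hσ : σ ≫ f = 𝟙 B) (n : ℕ) :
    Nonempty ((Sheaf.H.map f n).ker ≃+ Sheaf.H (kernel f) n) := by
  let ρ : A ⟶ kernel f := kernel.lift f (𝟙 A - f ≫ σ) (by
    rw [Preadditive.sub_comp, Category.id_comp, Category.assoc, hσ, Category.comp_id, sub_self])
  have hρ : ρ ≫ kernel.ι f = 𝟙 A - f ≫ σ := kernel.lift_ι _ _ _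
  have hι : kernel.ι f ≫ ρ = 𝟙 _ := by
    rw [← cancel_mono (kernel.ι f), Category.assoc, hρ, Preadditive.comp_sub, Category.comp_id,
      kernel.condition_assoc, zero_comp, sub_zero, Category.id_comp]
  have hA : ∀ x : Sheaf.H A n, Sheaf.H.map f n x = 0 →
      Sheaf.H.map (kernel.ι f) n (Sheaf.H.map ρ n x) = x := by
    intro x hx
    rw [← Sheaf.H.map_comp_apply, hρ]
    have h1 : Sheaf.H.map (𝟙 A - f ≫ σ) n x + Sheaf.H.map (f ≫ σ) n x = x := by
      rw [← Sheaf.H.map_add_apply, sub_add_cancel, Sheaf.H.map_id_apply]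
    rw [Sheaf.H.map_comp_apply f σ, hx, map_zero, add_zero] at h1
    exact h1
  refine ⟨{ toFun := fun x => Sheaf.H.map ρ n x.1
            invFun := fun y => ⟨Sheaf.H.map (kernel.ι f) n y, ?_⟩
            left_inv := fun x => Subtype.ext (hA x.1 x.2)
            right_inv := fun y => ?_
            map_add' := fun x y => map_add _ _ _ }⟩
  · rw [AddMonoidHom.mem_ker, ← Sheaf.H.map_comp_apply, kernel.condition]
    have h2 : Sheaf.H.map (0 : kernel f ⟶ B) n y + Sheaf.H.map (0 : kernel f ⟶ B) n y =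
        Sheaf.H.map (0 : kernel f ⟶ B) n y := by
      rw [← Sheaf.H.map_add_apply, add_zero]
    exact left_eq_add.mp h2.symm
  · change Sheaf.H.map ρ n (Sheaf.H.map (kernel.ι f) n y) = y
    rw [← Sheaf.H.map_comp_apply, hι, Sheaf.H.map_id_apply]

end K953.Sect
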