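import Groth.Agent.UnitsSh.K953.Sect
import Groth.Agent.Fga.SqZero
import Groth.Prelude.Def_UnitsSh

/-!
# The elementary step for principal units

`a : Z ⟶ X`, `b : Z' ⟶ X`, `c : Z'' ⟶ X` closed immersions, `t` a nilpotent global function with
`ker b = ker a + (t)`, `(ker a : t) = ker c`, `t ∈ ker c`. Then there is a short exact sequence
`0 → ker (O_X^* → a_* O_Z^*) → ker (O_X^* → b_* O_{Z'}^*) → c_* O_{Z''} → 0`.
-/

set_option autoImplicit false
universe u

open CategoryTheory CategoryTheory.Limits AlgebraicGeometry Opposite TopologicalSpace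

namespace K953.Step

open Groth.Agent.CohtopA.Sec Groth.Agent.Fga.Units Groth.Agent.Fga K953.Sect

variable {X : Scheme.{u}}

/-- The abelian sheaf of functions. -/
noncomputable abbrev fs (X : Scheme.{u}) : CohTop.Ab X := Coh.toAb (Coh.structureModule X)

/-- The push forward of the abelian sheaf of functions. -/
noncomputable abbrev pfs {Z : Scheme.{u}} (a : Z ⟶ X) : CohTop.Ab X := (CohTop.push a.base).obj (fs Z)

/-- The function given by a section. -/
noncomputable def fv {U : X.Opens} (s : Γs (fs X) U) : Γ(X, U) := s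

/-- The section given by a function. -/
noncomputable def fm {U : X.Opens} (s : Γ(X, U)) : Γs (fs X) U := s

theorem fv_fm {U : X.Opens} (s : Γ(X, U)) : fv (fm s) = s := rfl

theorem fv_r {U V : X.Opens} (h : V ≤ U) (s : Γs (fs X) U) : fv (r (fs X) h s) = ores h (fv s) := rfl

section

variable {Z : Scheme.{u}} (a : Z ⟶ X)

/-- The function given by a section. -/
noncomputable def pv {U : X.Opens} (s : Γs (pfs a) U) : Γ(Z, a ⁻¹ᵁ U) := s

theorem pv_injective {U : X.Opens} : Function.Injective (pv a (U := U)) := fun _ _ h => h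

theorem pv_zero {U : X.Opens} : pv a (0 : Γs (pfs a) U) = 0 := rfl

theorem pv_eq_zero {U : X.Opens} (s : Γs (pfs a) U) : s = 0 ↔ pv a s = 0 := Iff.rfl

/-- The section given by a function. -/
noncomputable def pm {U : X.Opens} (s : Γ(Z, a ⁻¹ᵁ U)) : Γs (pfs a) U := s

theorem app_ores {U V : X.Opens} (h : V ≤ U) (s : Γ(X, U)) :
    a.app V (ores h s) = ores (a.preimage_mono h) (a.app U s) :=
  congr($(a.naturality (homOfLE h).op) s)

theorem ores_ores {U V W : X.Opens} (h : V ≤ U) (h' : W ≤ V) (s : Γ(X, U)) :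
    ores h' (ores h s) = ores (h'.trans h) s := by
  change (X.presheaf.map (homOfLE h).op ≫ X.presheaf.map (homOfLE h').op).hom s = _
  rw [← X.presheaf.map_comp]
  rfl

/-- `f ↦ a^♯(f)`. -/
noncomputable def cm : fs X ⟶ pfs a :=
  ⟨{ app := fun U => AddCommGrpCat.ofHom ((a.app U.unop).hom : Γ(X, U.unop) →+* Γ(Z, a ⁻¹ᵁ U.unop)).toAddMonoidHom
     naturality := fun U V i => by
        ext s
        exact congr($(a.naturality i) (fv (X := X) (U := U.unop) s)) }⟩

theorem pv_cm {U : X.Opens} (s : Γs (fs X) U) : pv a (m (cm a) U s) = a.app U (fv s) := rfl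

/-- `f ↦ a^♯(t f)`. -/
noncomputable def mm (t : Γ(X, ⊤)) : fs X ⟶ pfs a :=
  ⟨{ app := fun U => AddCommGrpCat.ofHom
        ((((a.app U.unop).hom : Γ(X, U.unop) →+* Γ(Z, a ⁻¹ᵁ U.unop)).toAddMonoidHom).comp
          (AddMonoidHom.mulLeft (ores (show U.unop ≤ ⊤ from le_top) t)))
     naturality := fun U V i => by
        ext s
        have h1 := app_ores a (leOfHom i.unop) (ores (show U.unop ≤ ⊤ from le_top) t * fv (X := X) (U := U.unop) s)
        rw [map_mul, ores_ores] at h1
        exact h1 }⟩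

theorem pv_mm (t : Γ(X, ⊤)) {U : X.Opens} (s : Γs (fs X) U) :
    pv a (m (mm a t) U s) = a.app U (ores le_top t * fv s) := rfl

end

theorem uMap_eq {Z : Scheme.{u}} (a : Z ⟶ X) : unitsMap a = UnitsSh.comap a := rfl

/-- The kernel of the units map. -/
noncomputable abbrev Ker {Z : Scheme.{u}} (a : Z ⟶ X) : CohTop.Ab X := kernel (UnitsSh.comap a)

section

variable {Z : Scheme.{u}} (a : Z ⟶ X)

/-- The unit given by a section of the kernel. -/
noncomputable def kv {U : X.Opens} (s : Γs (Ker a) U) : Γ(X, U)ˣ :=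
  val (X := X) (m (kernel.ι (UnitsSh.comap a)) U s)

theorem kv_injective {U : X.Opens} : Function.Injective (kv a (U := U)) := by
  intro x y h
  exact m_injective (kernel.ι (UnitsSh.comap a)) U (val_injective h)

theorem kv_zero {U : X.Opens} : kv a (0 : Γs (Ker a) U) = 1 := by
  rw [kv, map_zero]
  rfl

theorem kv_add {U : X.Opens} (x y : Γs (Ker a) U) : kv a (x + y) = kv a x * kv a y := by
  rw [kv, map_add]
  rfl

theorem kv_r {U V : X.Opens} (h : V ≤ U) (s : Γs (Ker a) U) :
    (kv a (r (Ker a) h s) : Γ(X, V)) = ores h (kv a s : Γ(X, U)) := by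
  rw [kv, m_r, kv]
  exact val_r (X := X) h (m (kernel.ι (UnitsSh.comap a)) U s)

theorem app_kv {U : X.Opens} (s : Γs (Ker a) U) : a.app U (kv a s : Γ(X, U)) = 1 := by
  have h1 : m (UnitsSh.comap a) U (m (kernel.ι (UnitsSh.comap a)) U s) = 0 := ker_m _ _
  exact congrArg (fun w => ((pval a (U := U) w : Γ(Z, a ⁻¹ᵁ U)ˣ) : Γ(Z, a ⁻¹ᵁ U))) h1

theorem exists_kv {U : X.Opens} (u : Γ(X, U)ˣ) (h : a.app U (u : Γ(X, U)) = 1) :
    ∃ s : Γs (Ker a) U, kv a s = u := by
  have h1 : m (UnitsSh.comap a) U (Groth.Agent.Fga.Units.mk u) = 0 := by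
    rw [← uMap_eq]
    apply pval_injective
    apply _root_.Units.ext
    exact h
  obtain ⟨s, hs⟩ := exists_ker _ _ h1
  refine ⟨s, ?_⟩
  rw [kv, hs]
  rfl

end

section Local

variable {Z : Scheme.{u}} (a : Z ⟶ X) [IsClosedImmersion a]

theorem mem_ideal_iff (V : X.affineOpens) (s : Γ(X, V.1)) : s ∈ a.ker.ideal V ↔ a.app V.1 s = 0 := by
  rw [Scheme.Hom.ker_apply]
  exact RingHom.mem_ker

theorem mem_ideal {U : X.Opens} (s : Γ(X, U)) (hs : a.app U s = 0) (V : X.affineOpens) (h : V.1 ≤ U) :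
    ores h s ∈ a.ker.ideal V := by
  rw [mem_ideal_iff, app_ores, hs, map_zero]

theorem app_eq_zero {U : X.Opens} (s : Γ(X, U))
    (H : ∀ x ∈ U, ∃ (V : X.affineOpens) (h : V.1 ≤ U), x ∈ V.1 ∧ ores h s ∈ a.ker.ideal V) :
    a.app U s = 0 := by
  apply SqZero.eq_of_locally
  intro z hz
  obtain ⟨V, h, hxV, hV⟩ := H (a z) hz
  refine ⟨a ⁻¹ᵁ V.1, a.preimage_mono h, hxV, ?_⟩
  rw [← app_ores a h, (mem_ideal_iff a V _).mp hV, map_zero]

end Local

/-- The hypotheses of the elementary step. -/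
structure Dat {Z Z' Z'' : Scheme.{u}} (a : Z ⟶ X) (b : Z' ⟶ X) (c : Z'' ⟶ X) (t : Γ(X, ⊤)) : Prop where
  hb : ∀ V : X.affineOpens, b.ker.ideal V = a.ker.ideal V ⊔ Ideal.span {ores (show V.1 ≤ ⊤ from le_top) t}
  hc : ∀ (V : X.affineOpens) (f : Γ(X, V.1)),
    ores (show V.1 ≤ ⊤ from le_top) t * f ∈ a.ker.ideal V ↔ f ∈ c.ker.ideal V
  ht : ∀ V : X.affineOpens, ores (show V.1 ≤ ⊤ from le_top) t ∈ c.ker.ideal V
  hn : IsNilpotent t

section

variable {Z Z' Z'' : Scheme.{u}} (a : Z ⟶ X) (b : Z' ⟶ X) (c : Z'' ⟶ X) [IsClosedImmersion a]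
  [IsClosedImmersion b] [IsClosedImmersion c] (t : Γ(X, ⊤))

theorem exists_affine {U : X.Opens} {x : X} (hx : x ∈ U) :
    ∃ (V : X.affineOpens) (_ : V.1 ≤ U), x ∈ V.1 := by
  obtain ⟨V, h1, h2⟩ := SqZero.exists_affine hx
  exact ⟨V, h2, h1⟩

variable {a b c t}

theorem Dat.mul_mem (D : Dat a b c t) (V : X.affineOpens) (x y : Γ(X, V.1)) (hx : x ∈ b.ker.ideal V)
    (hy : y ∈ b.ker.ideal V) : x * y ∈ a.ker.ideal V := by
  rw [D.hb] at hx hy
  obtain ⟨x1, hx1, x2, hx2, rfl⟩ := Submodule.mem_sup.mp hx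
  obtain ⟨y1, hy1, y2, hy2, rfl⟩ := Submodule.mem_sup.mp hy
  obtain ⟨p, rfl⟩ := Ideal.mem_span_singleton'.mp hx2
  obtain ⟨q, rfl⟩ := Ideal.mem_span_singleton'.mp hy2
  have h1 : ores (show V.1 ≤ ⊤ from le_top) t * ores (show V.1 ≤ ⊤ from le_top) t ∈ a.ker.ideal V :=
    (D.hc V _).mpr (D.ht V)
  have h2 : (x1 + p * ores (show V.1 ≤ ⊤ from le_top) t) * (y1 + q * ores (show V.1 ≤ ⊤ from le_top) t) =
      (y1 + q * ores (show V.1 ≤ ⊤ from le_top) t) * x1 + (p * ores (show V.1 ≤ ⊤ from le_top) t) * y1 +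
      (p * q) * (ores (show V.1 ≤ ⊤ from le_top) t * ores (show V.1 ≤ ⊤ from le_top) t) := by ring
  rw [h2]
  exact Ideal.add_mem _ (Ideal.add_mem _ (Ideal.mul_mem_left _ _ hx1) (Ideal.mul_mem_left _ _ hy1))
    (Ideal.mul_mem_left _ _ h1)

theorem Dat.mul_eq_zero (D : Dat a b c t) {U : X.Opens} (x y : Γ(X, U)) (hx : b.app U x = 0)
    (hy : b.app U y = 0) : a.app U (x * y) = 0 := by
  apply app_eq_zero
  intro z hz
  obtain ⟨V, h, hzV⟩ := exists_affine hz
  refine ⟨V, h, hzV, ?_⟩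
  rw [map_mul]
  exact D.mul_mem V _ _ (mem_ideal b x hx V h) (mem_ideal b y hy V h)

/-- `u ↦ a^♯(u) - 1` on the kernel for `b`. -/
noncomputable def lm (D : Dat a b c t) : Ker b ⟶ pfs a :=
  ⟨{ app := fun U => AddCommGrpCat.ofHom
        { toFun := fun s => pm a (a.app U.unop ((kv b (U := U.unop) s : Γ(X, U.unop)) - 1))
          map_zero' := by
            have h1 : (kv b (U := U.unop) (0 : Γs (Ker b) U.unop) : Γ(X, U.unop)) - 1 = 0 := by
              rw [kv_zero, _root_.Units.val_one, sub_self]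
            exact (congrArg (a.app U.unop) h1).trans (map_zero _)
          map_add' := fun x y => by
            have hx : b.app U.unop ((kv b (U := U.unop) x : Γ(X, U.unop)) - 1) = 0 := by
              rw [map_sub, map_one, app_kv, sub_self]
            have hy : b.app U.unop ((kv b (U := U.unop) y : Γ(X, U.unop)) - 1) = 0 := by
              rw [map_sub, map_one, app_kv, sub_self]
            have h1 := D.mul_eq_zero _ _ hx hy
            have h2 : (kv b (U := U.unop) (x + y) : Γ(X, U.unop)) - 1 =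
              ((kv b (U := U.unop) x : Γ(X, U.unop)) - 1) + ((kv b (U := U.unop) y : Γ(X, U.unop)) - 1) +
              ((kv b (U := U.unop) x : Γ(X, U.unop)) - 1) * ((kv b (U := U.unop) y : Γ(X, U.unop)) - 1) := by
              rw [kv_add, _root_.Units.val_mul]
              ring
            refine (congrArg (a.app U.unop) h2).trans ?_
            rw [map_add, h1, add_zero, map_add]
            rfl }
     naturality := fun U V i => by
        ext s
        have h1 := kv_r b (leOfHom i.unop) (U := U.unop) (V := V.unop) s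
        have h2 := app_ores a (leOfHom i.unop) ((kv b (U := U.unop) s : Γ(X, U.unop)) - 1)
        rw [map_sub, map_one, ← h1] at h2
        exact h2 }⟩

theorem pv_lm (D : Dat a b c t) {U : X.Opens} (s : Γs (Ker b) U) :
    pv a (m (lm D) U s) = a.app U ((kv b s : Γ(X, U)) - 1) := rfl

theorem Dat.le (D : Dat a b c t) (V : X.affineOpens) : a.ker.ideal V ≤ b.ker.ideal V := by
  rw [D.hb]
  exact le_sup_left

theorem Dat.mem (D : Dat a b c t) (V : X.affineOpens) : ores (show V.1 ≤ ⊤ from le_top) t ∈ b.ker.ideal V := by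
  rw [D.hb]
  exact Ideal.mem_sup_right (Ideal.mem_span_singleton_self _)

theorem epi_cm : Epi (cm c) := by
  apply epi_of_local
  intro U s x hx
  obtain ⟨V, h, hxV⟩ := exists_affine hx
  obtain ⟨y, hy⟩ := (isClosedImmersion_iff_isAffineHom.mp (inferInstanceAs (IsClosedImmersion c))).2 V.1 V.2
    (pv c (r (pfs c) h s))
  exact ⟨V.1, h, fm y, hxV, hy⟩

/-- The elementary step: the epimorphism. -/
theorem exists_epi (D : Dat a b c t) : ∃ L' : Ker b ⟶ pfs c, Epi L' ∧
    ∀ (U : X.Opens) (s : Γs (Ker b) U), m L' U s = 0 ↔ a.app U (kv b s : Γ(X, U)) = 1 := by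
  have := epi_cm (c := c)
  suffices H : ∃ L' : Ker b ⟶ pfs c, Epi L' ∧
      ∀ (U : X.Opens) (s : Γs (Ker b) U), m L' U s = 0 ↔ m (lm D) U s = 0 by
    obtain ⟨L', h1, h2⟩ := H
    refine ⟨L', h1, fun U s => ?_⟩
    rw [h2, pv_eq_zero, pv_lm, map_sub, map_one, sub_eq_zero]
  refine exists_factor (lm D) (mm a t) (cm c) ?_ ?_ ?_
  · intro U f
    rw [pv_eq_zero, pv_eq_zero, pv_mm, pv_cm]
    constructor
    · intro h
      apply app_eq_zero
      intro x hx
      obtain ⟨V, h', hxV⟩ := exists_affine hx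
      refine ⟨V, h', hxV, ?_⟩
      have h3 := mem_ideal a _ h V h'
      rw [map_mul, ores_ores, D.hc] at h3
      exact h3
    · intro h
      apply app_eq_zero
      intro x hx
      obtain ⟨V, h', hxV⟩ := exists_affine hx
      refine ⟨V, h', hxV, ?_⟩
      rw [map_mul, ores_ores, D.hc]
      exact mem_ideal c _ h V h'
  · intro U s x hx
    obtain ⟨V, h', hxV⟩ := exists_affine hx
    have h3 : ((kv b (r (Ker b) h' s) : Γ(X, V.1)) - 1) ∈ b.ker.ideal V := by
      rw [mem_ideal_iff, map_sub, map_one, app_kv, sub_self]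
    rw [D.hb] at h3
    obtain ⟨y, hy, z, hz, hyz⟩ := Submodule.mem_sup.mp h3
    obtain ⟨f, rfl⟩ := Ideal.mem_span_singleton'.mp hz
    refine ⟨V.1, h', fm f, hxV, ?_⟩
    apply pv_injective
    rw [pv_mm, pv_lm, ← hyz, map_add, (mem_ideal_iff a V y).mp hy, zero_add, fv_fm, mul_comm f]
  · intro U f x hx
    obtain ⟨V, h', hxV⟩ := exists_affine hx
    have hn : IsNilpotent (ores (show V.1 ≤ ⊤ from le_top) t * ores h' (fv f)) :=
      (Commute.all _ _).isNilpotent_mul_right (D.hn.map (ores (show V.1 ≤ ⊤ from le_top)))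
    obtain ⟨u, hu⟩ := hn.isUnit_one_add
    obtain ⟨s, hs⟩ := exists_kv b u (by
      rw [hu, map_add, map_one, map_mul, (mem_ideal_iff b V _).mp (D.mem V), zero_mul, add_zero])
    refine ⟨V.1, h', s, hxV, ?_⟩
    apply pv_injective
    rw [pv_mm, pv_lm, hs, hu, add_sub_cancel_left, fv_r]

/-- The inclusion of kernels. -/
noncomputable def kj (D : Dat a b c t) : Ker a ⟶ Ker b :=
  kernel.lift (UnitsSh.comap b) (kernel.ι (UnitsSh.comap a)) (by
    apply Sheaf.hom_ext
    ext U s
    change m (UnitsSh.comap b) U.unop (m (kernel.ι (UnitsSh.comap a)) U.unop s) = 0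
    rw [← uMap_eq b]
    apply pval_injective
    apply _root_.Units.ext
    change b.app U.unop (kv a (U := U.unop) s : Γ(X, U.unop)) = 1
    rw [← sub_eq_zero, ← map_one (b.app U.unop).hom]
    change b.app U.unop (kv a (U := U.unop) s : Γ(X, U.unop)) - b.app U.unop 1 = 0
    rw [← map_sub]
    apply app_eq_zero
    intro x hx
    obtain ⟨V, h', hxV⟩ := exists_affine hx
    refine ⟨V, h', hxV, D.le V ?_⟩
    apply mem_ideal
    rw [map_sub, map_one, app_kv, sub_self])

theorem kj_ι (D : Dat a b c t) : kj D ≫ kernel.ι (UnitsSh.comap b) = kernel.ι (UnitsSh.comap a) :=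
  kernel.lift_ι _ _ _

instance (D : Dat a b c t) : Mono (kj D) := by
  have : Mono (kj D ≫ kernel.ι (UnitsSh.comap b)) := by
    rw [kj_ι]
    infer_instance
  exact mono_of_mono _ (kernel.ι (UnitsSh.comap b))

theorem kv_kj (D : Dat a b c t) {U : X.Opens} (s : Γs (Ker a) U) : kv b (m (kj D) U s) = kv a s := by
  rw [kv, ← m_comp, kj_ι]
  rfl

/-- The elementary step: the short exact sequence. -/
theorem exists_shortExact (D : Dat a b c t) : ∃ (p : Ker b ⟶ pfs c) (w : kj D ≫ p = 0),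
    (ShortComplex.mk (kj D) p w).ShortExact := by
  obtain ⟨L', h1, h2⟩ := exists_epi D
  obtain ⟨w, hw⟩ := shortExact (kj D) L' (by
    intro U s
    rw [h2]
    constructor
    · intro h
      obtain ⟨s', hs'⟩ := exists_kv a _ h
      refine ⟨s', ?_⟩
      apply kv_injective b
      rw [kv_kj, hs']
    · rintro ⟨s', rfl⟩
      rw [kv_kj, app_kv])
  exact ⟨L', w, hw⟩

theorem subsingleton_pfs (n : ℕ) (h : Subsingleton (Coh.HH Z'' (Coh.structureModule Z'') n)) :
    Subsingleton (Sheaf.H (pfs c) n) := by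
  have h1 := Groth.Agent.CohtopA.PushClosed.preservesFiniteColimits_push_of_isClosedEmbedding c.base
    c.isClosedEmbedding
  have e := Groth.Agent.CohtopA.PushClosed.HPushEquiv c.base (Coh.toAb (Coh.structureModule Z'')) n
  have h2 : Subsingleton (CohTop.H (Coh.toAb (Coh.structureModule Z'')) n) := h
  exact e.symm.toEquiv.subsingleton

/-- Vanishing of the cohomology of the kernel. -/
theorem subsingleton_Ker (D : Dat a b c t) (n : ℕ) (h : Subsingleton (Coh.HH Z'' (Coh.structureModule Z'') n))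
    (ha : Subsingleton (Sheaf.H (Ker a) n)) : Subsingleton (Sheaf.H (Ker b) n) := by
  obtain ⟨p, w, hw⟩ := exists_shortExact D
  exact subsingleton_H_mid hw n ha (subsingleton_pfs n h)

end

end K953.Step
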